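import Groth.Agent.Lib.Ample.Generation
import Groth.Agent.Lib.Ample.Frame
import Groth.Agent.Lib.Ample.Tensor
import Groth.Agent.Lib.ASBun21.TautFree
import Groth.Agent.Lib.Cohom.HomologySections
import Groth.Agent.Lib.Cohom.Serre

/-!
# The twisted kernel of a generating family of sections of an invertible module is globally generated
-/

set_option autoImplicit false
set_option linter.all false
set_option backward.isDefEq.respectTransparency false

universe u

open CategoryTheory CategoryTheory.Limits AlgebraicGeometry TopologicalSpace Opposite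
open GrothLib.InvExt (mres)
open GrothLib.Ample (res res_res res_self)

noncomputable section

namespace GrothLib.GGKer10

variable {X : Scheme.{u}} (c : Ample.Cocycle X) {n : ℕ} (a : Fin (n + 1) → c.sect 1 ⊤)

/-- The map given by the family. -/
def phi : FlatMod.freeMod X (n + 1) ⟶ c.twist 1 := Sigma.desc fun t => c.hom (a t)

theorem phi_std (t : Fin (n + 1)) (V : X.Opens) :
    (show c.sect 1 V from (phi c a).app V (ASBun21.std X t V)) = c.sectRes le_top (a t) := by
  show (Sigma.ι (fun _ : Fin (n + 1) => Coh.structureModule X) t ≫ phi c a).app V (FinCov.one X V) = _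
  rw [phi, Sigma.ι_desc]
  exact c.hom_app_one (a t) V

theorem phi_apply (V : X.Opens) (x : Fin (n + 1) → Γ(X, V)) :
    (show c.sect 1 V from (phi c a).app V (∑ t, x t • ASBun21.std X t V)) =
      ∑ t, x t • c.sectRes (le_top : V ≤ ⊤) (a t) := by
  rw [map_sum]
  refine Finset.sum_congr rfl fun t _ => ?_
  refine (Ample.app_smul (phi c a) (x t) _).trans ?_
  exact congrArg (fun z : c.sect 1 V => x t • z) (phi_std c a t V)

/-- The `l`-th component. -/
def comp (l : c.ι) (V : X.Opens) : c.sect 1 V →+ Γ(X, V ⊓ c.D l) :=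
  (Pi.evalAddMonoidHom (fun i => Γ(X, V ⊓ c.D i)) l).comp (c.sect 1 V).subtype

theorem comp_sum (l : c.ι) (V : X.Opens) (x : Fin (n + 1) → Γ(X, V)) :
    (∑ t, x t • c.sectRes (le_top : V ≤ ⊤) (a t) : c.sect 1 V).1 l =
      ∑ t, res (inf_le_left : V ⊓ c.D l ≤ V) (x t) *
        res (inf_le_inf_right _ le_top : V ⊓ c.D l ≤ ⊤ ⊓ c.D l) ((a t).1 l) := by
  show comp c l V _ = _
  rw [map_sum]
  rfl

/-- The Koszul sections of the free module. -/
def kos (i j : Fin (n + 1)) (l : c.ι) : Γ(FlatMod.freeMod X (n + 1), ⊤ ⊓ c.D l) :=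
  (a i).1 l • ASBun21.std X j _ - (a j).1 l • ASBun21.std X i _

theorem phi_kos (i j : Fin (n + 1)) (l : c.ι) : (phi c a).app (⊤ ⊓ c.D l) (kos c a i j l) = 0 := by
  rw [kos, map_sub, sub_eq_zero]
  refine (Ample.app_smul (phi c a) _ _).trans (Eq.trans ?_ (Ample.app_smul (phi c a) _ _).symm)
  show (a i).1 l • (show c.sect 1 (⊤ ⊓ c.D l) from (phi c a).app _ (ASBun21.std X j _)) =
    (a j).1 l • (show c.sect 1 (⊤ ⊓ c.D l) from (phi c a).app _ (ASBun21.std X i _))
  rw [phi_std, phi_std]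
  refine c.sect_ext_of_le (inf_le_right : ⊤ ⊓ c.D l ≤ c.D l) ?_
  simp only [Ample.Cocycle.smul_apply, Ample.Cocycle.sectRes_apply]
  ring

theorem exists_kos (i j : Fin (n + 1)) : ∃ y : c.msect (kernel (phi c a)) 1 ⊤,
    ∀ l, (kernel.ι (phi c a)).app (⊤ ⊓ c.D l) (y.1 l) = kos c a i j l := by
  have hex : ∀ l, ∃ w, (kernel.ι (phi c a)).app (⊤ ⊓ c.D l) w = kos c a i j l := by
    intro l
    let S : ShortComplex X.Modules := ShortComplex.mk (kernel.ι (phi c a)) (phi c a) (kernel.condition _)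
    let T : ShortComplex X.Modules := ShortComplex.mk (kernel.ι (phi c a)) (cokernel.π (kernel.ι (phi c a)))
      (cokernel.condition _)
    have hT : T.ShortExact := { exact := ShortComplex.exact_cokernel _ }
    refine QCoh.app_exact hT _ _ ?_
    have hd := cokernel.π_desc (kernel.ι (phi c a)) (phi c a) (kernel.condition _)
    have : Mono (cokernel.desc (kernel.ι (phi c a)) (phi c a) (kernel.condition _)) :=
      inferInstanceAs (Mono (Abelian.factorThruCoimage (phi c a)))
    refine Cohom.app_injective_of_mono (cokernel.desc (kernel.ι (phi c a)) (phi c a) (kernel.condition _)) _ ?_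
    rw [map_zero]
    show (cokernel.π (kernel.ι (phi c a)) ≫ cokernel.desc _ (phi c a) _).app _ _ = 0
    rw [hd, phi_kos]
  choose w hw using hex
  refine ⟨⟨w, fun l m W hl hm => ?_⟩, hw⟩
  refine Cohom.app_injective_of_mono (kernel.ι (phi c a)) W ?_
  rw [Ample.app_smul, Ample.app_mres, Ample.app_mres, hw, hw]
  simp only [kos, InvExt.mres, map_sub, smul_sub]
  change mres (FlatMod.freeMod X (n + 1)) hl ((a i).1 l • ASBun21.std X j _) -
      mres (FlatMod.freeMod X (n + 1)) hl ((a j).1 l • ASBun21.std X i _) =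
    _ • mres (FlatMod.freeMod X (n + 1)) hm ((a i).1 m • ASBun21.std X j _) -
      _ • mres (FlatMod.freeMod X (n + 1)) hm ((a j).1 m • ASBun21.std X i _)
  simp only [Ample.mres_smul', ASBun21.mres_std, smul_smul]
  rw [c.sect_spec (a i) l m hl hm, c.sect_spec (a j) l m hl hm]

theorem exists_isUnit (h : Epi (phi c a)) (x : X) {l : c.ι} (hl : x ∈ c.D l) :
    ∃ k, x ∈ X.basicOpen ((a k).1 l) := by
  obtain ⟨W, hW, hxW, t, ht⟩ := Cocyc.exists_local_preimage (phi c a)
    (show Γ(c.twist 1, c.D l) from c.base 1 l le_rfl) x hl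
  obtain ⟨z, rfl⟩ := (ASBun21.std_bijective X W).2 t
  have ht' : (∑ k, z k • c.sectRes (le_top : W ≤ ⊤) (a k) : c.sect 1 W) =
      c.sectRes hW (c.base 1 l le_rfl) := (phi_apply c a W z).symm.trans ht
  have h1 := congrArg (fun q : c.sect 1 W => q.1 l) ht'
  simp only [comp_sum, c.sectRes_base, c.base_self] at h1
  have hx' : x ∈ W ⊓ c.D l := ⟨hxW, hl⟩
  have h2 := congrArg (X.presheaf.germ (W ⊓ c.D l) x hx') h1
  simp only [map_sum, map_mul, map_one] at h2
  by_contra hno
  push_neg at hno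
  refine one_ne_zero' (IsLocalRing.ResidueField (X.presheaf.stalk x)) ?_
  rw [← map_one (IsLocalRing.residue (X.presheaf.stalk x)), ← h2, map_sum]
  refine Finset.sum_eq_zero fun k _ => ?_
  rw [map_mul, (IsLocalRing.residue_eq_zero_iff (X.presheaf.germ (W ⊓ c.D l) x hx' (res _ ((a k).1 l)))).2 ?_,
    mul_zero]
  rw [IsLocalRing.mem_maximalIdeal, mem_nonunits_iff]
  intro hu
  have hg : X.presheaf.germ (W ⊓ c.D l) x hx' (res (inf_le_inf_right _ le_top) ((a k).1 l)) =
      X.presheaf.germ (⊤ ⊓ c.D l) x ⟨trivial, hl⟩ ((a k).1 l) := X.presheaf.germ_res_apply _ _ _ _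
  exact hno k ((Scheme.mem_basicOpen _ _ _ (show x ∈ ⊤ ⊓ c.D l from ⟨trivial, hl⟩)).2 (hg ▸ hu))

theorem isGloballyGenerated_modTwist (h : Epi (phi c a)) :
    Curv2.IsGloballyGenerated (c.modTwist (kernel (phi c a)) 1) := by
  refine Ample.isGloballyGenerated_of_local _ fun O (μ : c.msect (kernel (phi c a)) 1 O) x hx => ?_
  obtain ⟨l, hl⟩ := c.exists_mem x
  obtain ⟨k, hk⟩ := exists_isUnit c a h x hl
  let W := O ⊓ X.basicOpen ((a k).1 l)
  have hWD : W ≤ ⊤ ⊓ c.D l := inf_le_right.trans (X.basicOpen_le _)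
  have hWl : W ≤ c.D l := hWD.trans inf_le_right
  have hWO : W ≤ O ⊓ c.D l := le_inf inf_le_left hWl
  refine ⟨W, inf_le_left, ⟨hx, hk⟩, ?_⟩
  have hu : IsUnit (res hWD ((a k).1 l)) := by
    have h0 := (RingedSpace.isUnit_res_basicOpen X.toRingedSpace ((a k).1 l)).map
      (res (inf_le_right : W ≤ X.basicOpen ((a k).1 l)))
    exact (congrArg IsUnit (res_res _ _ _)).mp h0
  obtain ⟨z, hz⟩ := (ASBun21.std_bijective X W).2
    ((kernel.ι (phi c a)).app W (mres (kernel (phi c a)) hWO (μ.1 l)))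
  simp only at hz
  have hz0 : (phi c a).app W (∑ t, z t • ASBun21.std X t W) = 0 := by
    rw [hz]
    show (kernel.ι (phi c a) ≫ phi c a).app W _ = 0
    rw [kernel.condition, Scheme.Modules.Hom.zero_app]; rfl
  have hrel : ∑ t, z t * res hWD ((a t).1 l) = 0 := by
    have h3 := congrArg (fun q : c.sect 1 W => res (le_inf le_rfl hWl : W ≤ W ⊓ c.D l) (q.1 l))
      ((phi_apply c a W z).symm.trans hz0)
    simp only [comp_sum, map_sum, map_mul, res_res, res_self] at h3
    exact h3.trans (map_zero _)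
  choose y hy using fun t => exists_kos c a k t
  have key : mres (c.modTwist (kernel (phi c a)) 1) (inf_le_left : W ≤ O) μ =
      (∑ t, ((↑hu.unit⁻¹ : Γ(X, W)) * z t) • c.msectRes (le_top : W ≤ ⊤) (y t) :
        c.msect (kernel (phi c a)) 1 W) := by
    refine c.msect_ext_of_le hWl ?_
    refine Cohom.app_injective_of_mono (kernel.ι (phi c a)) _ ?_
    let ev : c.msect (kernel (phi c a)) 1 W →+ Γ(kernel (phi c a), W ⊓ c.D l) :=
      (Pi.evalAddMonoidHom (fun i => Γ(kernel (phi c a), W ⊓ c.D i)) l).comp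
        (c.msect (kernel (phi c a)) 1 W).subtype
    show (kernel.ι (phi c a)).app _ (mres _ (inf_le_inf_right _ (inf_le_left : W ≤ O)) (μ.1 l)) =
      (kernel.ι (phi c a)).app _ (ev _)
    rw [map_sum, map_sum]
    have hWW : W ⊓ c.D l ≤ W := inf_le_left
    have e1 : (kernel.ι (phi c a)).app _ (mres _ (inf_le_inf_right _ (inf_le_left : W ≤ O)) (μ.1 l)) =
        ∑ t, res hWW (z t) • ASBun21.std X t _ := by
      rw [← InvExt.mres_mres _ hWO hWW, Ample.app_mres, ← hz]
      simp only [InvExt.mres, map_sum]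
      refine Finset.sum_congr rfl fun t _ => ?_
      exact (Ample.mres_smul' _ hWW _ _).trans (by rw [ASBun21.mres_std])
    rw [e1]
    have e2 : ∀ t, (kernel.ι (phi c a)).app _
        (ev (((↑hu.unit⁻¹ : Γ(X, W)) * z t) • c.msectRes (le_top : W ≤ ⊤) (y t))) =
        res hWW (z t) • ASBun21.std X t _ -
          res hWW ((↑hu.unit⁻¹ : Γ(X, W)) * (z t * res hWD ((a t).1 l))) • ASBun21.std X k _ := by
      intro t
      show (kernel.ι (phi c a)).app _ (res hWW ((↑hu.unit⁻¹ : Γ(X, W)) * z t) • mres (kernel (phi c a)) (inf_le_inf_right _ le_top : W ⊓ c.D l ≤ ⊤ ⊓ c.D l) ((y t).1 l)) = _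
      rw [Ample.app_smul, Ample.app_mres, hy]
      simp only [kos, InvExt.mres, map_sub, smul_sub]
      rw [sub_eq_add_neg, sub_eq_add_neg]
      refine congrArg₂ (· + ·) ?_ (congrArg Neg.neg ?_)
      · refine (congrArg (res hWW _ • ·) (Ample.mres_smul' _ (inf_le_inf_right _ le_top) _ _)).trans ?_
        rw [ASBun21.mres_std, smul_smul]
        congr 1
        have hone : res hWW ↑hu.unit⁻¹ * res (inf_le_inf_right _ le_top : W ⊓ c.D l ≤ ⊤ ⊓ c.D l) ((a k).1 l) = 1 := by
          rw [← res_res hWD hWW, ← map_mul, hu.val_inv_mul, map_one]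
        rw [map_mul]
        linear_combination (res hWW (z t)) * hone
      · refine (congrArg (res hWW _ • ·) (Ample.mres_smul' _ (inf_le_inf_right _ le_top) _ _)).trans ?_
        rw [ASBun21.mres_std, smul_smul]
        congr 1
        simp only [map_mul, res_res]
        ring
    simp only [e2, Finset.sum_sub_distrib, ← Finset.sum_smul, ← map_sum, ← Finset.mul_sum, hrel, mul_zero,
      map_zero, zero_smul, sub_zero]
    rfl
  rw [key]
  exact Submodule.sum_mem _ fun t _ => Submodule.smul_mem _ _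
    (Submodule.subset_span ⟨(show Γ(c.modTwist (kernel (phi c a)) 1, ⊤) from y t), rfl⟩)

theorem isGloballyGenerated_tensor_kernel (L : X.Modules) (hL : PicF.IsInvertible L)
    (s : Fin (n + 1) → (Coh.structureModule X ⟶ L))
    (hs : Epi (Sigma.desc s : FlatMod.freeMod X (n + 1) ⟶ L)) :
    Curv2.IsGloballyGenerated
      (CohB1.tensorMod (kernel (Sigma.desc s : FlatMod.freeMod X (n + 1) ⟶ L)) L) := by
  obtain ⟨c, ⟨e⟩⟩ := Ample.exists_cocycle hL
  choose a ha using fun t => c.exists_hom_eq (s t ≫ e.hom)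
  have hphi : phi c a = (Sigma.desc s : FlatMod.freeMod X (n + 1) ⟶ L) ≫ e.hom :=
    Sigma.hom_ext _ _ fun t => by
      rw [phi, Sigma.ι_desc, ha, ← Category.assoc, Sigma.ι_desc]
  have : Epi (phi c a) := hphi ▸ inferInstance
  let k : kernel (phi c a) ≅ kernel (Sigma.desc s : FlatMod.freeMod X (n + 1) ⟶ L) :=
    kernelIsoOfEq hphi ≪≫ kernelCompMono _ e.hom
  obtain ⟨m⟩ := c.nonempty_tensor_modTwist (kernel (phi c a)) 1
  exact Ample.isGloballyGenerated_of_iso (m.symm ≪≫ Ample.LineData.tensorModMapIso k e.symm)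
    (isGloballyGenerated_modTwist c a this)

end GrothLib.GGKer10
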